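import Groth.Agent.KFlat.Absolute
import Groth.Agent.KInj.Adjunction
import Groth.Agent.KInj.Existence
import Groth.Agent.ModSiteGro.Basic
import Groth.Prelude.Def_DCoh2
import Mathlib.CategoryTheory.Triangulated.Orthogonal

/-!
The derived adjunction `Lf^* ⊣ Rf_*` on schemes.
-/

set_option autoImplicit false
universe u

namespace Groth.Agent.DerPush

open CategoryTheory Limits AlgebraicGeometry

attribute [local instance] HasDerivedCategory.standard

variable {X Y Z : Scheme.{u}}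

instance isGrothendieckAbelian_modules (X : Scheme.{u}) : IsGrothendieckAbelian.{u} X.Modules :=
  Groth.Agent.ModSiteGro.isGrothendieckAbelian X.ringCatSheaf

lemma exists_kInj_sch (K : CochainComplex X.Modules ℤ) :
    ∃ (I : CochainComplex X.Modules ℤ) (f : K ⟶ I), I.IsKInjective ∧ QuasiIso f := by
  obtain ⟨I, f, hI, hf, -⟩ := KInj.exists_kInjective K
  exact ⟨I, f, hI, hf⟩

lemma hasRpush_sch (f : X ⟶ Y) : DCoh.HasRpush f :=
  (KInj.isDeforming_Qh exists_kInj_sch _).hasRightDerivedFunctor _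

/-- the unit `K(f_*) ⟶ Rf_*` -/
noncomputable abbrev rpushUnit (f : X ⟶ Y) [DCoh.HasRpush f] :
    DCoh.pushKh f ⟶ DerivedCategory.Qh ⋙ DCoh.Rpush f :=
  (DCoh.pushKh f).totalRightDerivedUnit DerivedCategory.Qh
    (HomotopyCategory.quasiIso X.Modules (ComplexShape.up ℤ))

lemma isIso_rpushUnit_app (f : X ⟶ Y) [DCoh.HasRpush f] {I : HomotopyCategory X.Modules (ComplexShape.up ℤ)}
    (hI : KInj.kinjProp X.Modules I) : IsIso ((rpushUnit f).app I) :=
  (KInj.isDeforming_Qh exists_kInj_sch (DCoh.pushKh f)).isIso_app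
    (HomotopyCategory.quasiIso X.Modules (ComplexShape.up ℤ)) (DCoh.Rpush f) (rpushUnit f) hI

/-- `Lf^* ⊣ Rf_*` -/
theorem nonempty_lpull_adj_rpush (f : X ⟶ Y) [DCoh.HasLpull f] [DCoh.HasRpush f] :
    Nonempty (DCoh.Lpull f ⊣ DCoh.Rpush f) := by
  let W₁ := HomotopyCategory.quasiIso Y.Modules (ComplexShape.up ℤ)
  let W₂ := HomotopyCategory.quasiIso X.Modules (ComplexShape.up ℤ)
  let α := (DCoh.pullKh f).totalLeftDerivedCounit DerivedCategory.Qh W₁
  let adj := KInj.mapHomotopyCategoryAdj (Scheme.Modules.pullbackPushforwardAdjunction f) (ComplexShape.up ℤ)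
  have := KFlat.isLeftDerivedFunctor_comp_of_kFlatAcyclic (KFlat.kFlatAcyclic_pullback f) (DCoh.Lpull f) α
    (DCoh.Rpush f)
  have := (KInj.isDeforming_Qh exists_kInj_sch (DCoh.pushKh f)).isRightDerivedFunctor_comp W₂
    (DCoh.Rpush f) (rpushUnit f) (DCoh.Lpull f)
  exact ⟨adj.derived W₁ W₂ α (rpushUnit f)⟩

/-- `Lf^* ⊣ Rf_*`, without a binder for `Lf^*` -/
lemma isRightAdjoint_rpush (f : X ⟶ Y) [DCoh.HasRpush f] : (DCoh.Rpush f).IsRightAdjoint := by
  have := KFlat.hasLpull f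
  obtain ⟨adj⟩ := nonempty_lpull_adj_rpush f
  exact adj.isRightAdjoint

end Groth.Agent.DerPush
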