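import Groth.Agent.DerPush.Basic

/-!
`Rf_*` sends distinguished triangles to triangles which can be completed to distinguished ones, and
preserves derived limits.
-/

set_option autoImplicit false
universe u

namespace Groth.Agent.DerPush

open CategoryTheory Limits AlgebraicGeometry Pretriangulated

attribute [local instance] HasDerivedCategory.standard

variable {X Y : Scheme.{u}} (f : X ⟶ Y) [DCoh.HasRpush f]

lemma exists_rpush_triangle {A B C : DCoh.D X} (g₁ : A ⟶ B) (g₂ : B ⟶ C) (g₃ : C ⟶ A⟦(1 : ℤ)⟧)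
    (hT : Triangle.mk g₁ g₂ g₃ ∈ distinguishedTriangles) :
    ∃ c, Triangle.mk ((DCoh.Rpush f).map g₁) ((DCoh.Rpush f).map g₂) c ∈ distinguishedTriangles := by
  have hdef := KInj.isDeforming_Qh (exists_kInj_sch (X := X)) (DCoh.pushKh f)
  obtain ⟨I, hI, ⟨eI⟩⟩ := hdef.res B
  obtain ⟨J, hJ, ⟨eJ⟩⟩ := hdef.res C
  obtain ⟨φ, hφ⟩ := hdef.surj hJ (eI.inv ≫ g₂ ≫ eJ.hom)
  obtain ⟨F, a, b, h⟩ := distinguished_cocone_triangle₁ φ
  have hF : KInj.kinjProp X.Modules F := by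
    let P := (HomotopyCategory.subcategoryAcyclic X.Modules).rightOrthogonal
    have hI' : P I := (CochainComplex.isKInjective_iff_rightOrthogonal I.as).1 hI
    have hJ' : P J := (CochainComplex.isKInjective_iff_rightOrthogonal J.as).1 hJ
    have hF' := P.ext_of_isTriangulatedClosed₁' _ h hI' hJ'
    rw [P.isoClosure_eq_self] at hF'
    exact (CochainComplex.isKInjective_iff_rightOrthogonal F.as).2 hF'
  have h1 := DerivedCategory.Qh.map_distinguished (Triangle.mk a φ b) h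
  have h2 := (DCoh.pushKh f).map_distinguished (Triangle.mk a φ b) h
  have hφ' : DerivedCategory.Qh.map φ ≫ eJ.inv = eI.inv ≫ g₂ := by rw [hφ]; simp
  obtain ⟨e, he₂⟩ : ∃ e : DerivedCategory.Qh.obj F ≅ A,
      e.hom ≫ g₁ = DerivedCategory.Qh.map a ≫ eI.inv := by
    let iso := isoTriangleOfIso₁₂ _ _ (rot_of_distTriang _ h1) (rot_of_distTriang _ hT) eI.symm eJ.symm hφ'
    let e₁ : DerivedCategory.Qh.obj F ≅ A :=
      (shiftFunctor (DCoh.D X) (1 : ℤ)).preimageIso (Triangle.π₃.mapIso iso)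
    refine ⟨e₁, (shiftFunctor (DCoh.D X) (1 : ℤ)).map_injective ?_⟩
    have h3 : (-(DerivedCategory.Qh.map a)⟦(1 : ℤ)⟧') ≫ eI.inv⟦(1 : ℤ)⟧' = iso.hom.hom₃ ≫ (-g₁⟦(1 : ℤ)⟧') :=
      iso.hom.comm₃
    have h4 := neg_inj.1 ((Preadditive.neg_comp _ _).symm.trans (h3.trans (Preadditive.comp_neg _ _)))
    have h5 : (shiftFunctor (DCoh.D X) (1 : ℤ)).map e₁.hom = iso.hom.hom₃ :=
      Functor.map_preimage _ _
    rw [Functor.map_comp, Functor.map_comp]
    exact (congrArg (· ≫ _) h5).trans h4.symm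
  have iF := isIso_rpushUnit_app f hF
  have iI := isIso_rpushUnit_app f hI
  have iJ := isIso_rpushUnit_app f hJ
  let eF : (DCoh.pushKh f).obj F ≅ (DCoh.Rpush f).obj A :=
    @asIso _ _ _ _ ((rpushUnit f).app F) iF ≪≫ (DCoh.Rpush f).mapIso e
  let eI' : (DCoh.pushKh f).obj I ≅ (DCoh.Rpush f).obj B :=
    @asIso _ _ _ _ ((rpushUnit f).app I) iI ≪≫ (DCoh.Rpush f).mapIso eI.symm
  let eJ' : (DCoh.pushKh f).obj J ≅ (DCoh.Rpush f).obj C :=
    @asIso _ _ _ _ ((rpushUnit f).app J) iJ ≪≫ (DCoh.Rpush f).mapIso eJ.symm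
  have c₁ : (DCoh.pushKh f).map a ≫ eI'.hom = eF.hom ≫ (DCoh.Rpush f).map g₁ := by
    simp only [eF, eI', Iso.trans_hom, asIso_hom, Functor.mapIso_hom, Iso.symm_hom, Category.assoc]
    rw [(rpushUnit f).naturality_assoc a, Functor.comp_map]
    simp only [← Functor.map_comp, he₂]
  have c₂ : (DCoh.pushKh f).map φ ≫ eJ'.hom = eI'.hom ≫ (DCoh.Rpush f).map g₂ := by
    simp only [eJ', eI', Iso.trans_hom, asIso_hom, Functor.mapIso_hom, Iso.symm_hom, Category.assoc]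
    rw [(rpushUnit f).naturality_assoc φ, Functor.comp_map]
    simp only [← Functor.map_comp, hφ']
  let w : (DCoh.pushKh f).obj J ⟶ ((DCoh.pushKh f).obj F)⟦(1 : ℤ)⟧ :=
    ((DCoh.pushKh f).mapTriangle.obj (Triangle.mk a φ b)).mor₃
  refine ⟨eJ'.inv ≫ w ≫ eF.hom⟦(1 : ℤ)⟧', isomorphic_distinguished _ h2 _
    (Triangle.isoMk _ _ eF eI' eJ' c₁ c₂ ?_).symm⟩
  exact (eJ'.hom_inv_id_assoc _).symm

lemma isRlim_rpush (K : ℕ → DCoh.D X) (t : ∀ n, K (n + 1) ⟶ K n) [HasProduct K]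
    [HasProduct fun n => (DCoh.Rpush f).obj (K n)] (L : DCoh.D X) (hL : DCoh.IsRlim K t L) :
    DCoh.IsRlim (fun n => (DCoh.Rpush f).obj (K n)) (fun n => (DCoh.Rpush f).map (t n))
      ((DCoh.Rpush f).obj L) := by
  obtain ⟨a, c, hT⟩ := hL
  obtain ⟨c', hT'⟩ := exists_rpush_triangle f _ _ _ hT
  have := isRightAdjoint_rpush f
  have : PreservesLimitsOfSize.{0, 0} (DCoh.Rpush f) := inferInstance
  have : (DCoh.Rpush f).Additive := Functor.additive_of_preserves_binary_products _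
  let e := PreservesProduct.iso (DCoh.Rpush f) K
  let Δ' : (∏ᶜ fun n => (DCoh.Rpush f).obj (K n)) ⟶ ∏ᶜ fun n => (DCoh.Rpush f).obj (K n) :=
    Pi.lift fun n => Pi.π (fun n => (DCoh.Rpush f).obj (K n)) n -
      Pi.π (fun n => (DCoh.Rpush f).obj (K n)) (n + 1) ≫ (DCoh.Rpush f).map (t n)
  let Δ : ∏ᶜ K ⟶ ∏ᶜ K := Pi.lift fun n => Pi.π K n - Pi.π K (n + 1) ≫ t n
  have c₁ : ((DCoh.Rpush f).map a ≫ e.hom) ≫ e.inv = 𝟙 _ ≫ (DCoh.Rpush f).map a := by simp
  have c₂ : Δ' ≫ e.inv = e.inv ≫ (DCoh.Rpush f).map Δ := by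
    rw [← cancel_mono e.hom, Category.assoc, Category.assoc, Iso.inv_hom_id, Category.comp_id, ← cancel_epi e.hom,
      Iso.hom_inv_id_assoc]
    refine Pi.hom_ext _ _ fun n => ?_
    simp [e, Δ, Δ', ← Functor.map_comp, ← Functor.map_sub]
  have c₃ : (e.inv ≫ c') ≫ (shiftFunctor (DCoh.D Y) (1 : ℤ)).map (𝟙 ((DCoh.Rpush f).obj L)) = e.inv ≫ c' := by
    simp
  exact ⟨(DCoh.Rpush f).map a ≫ e.hom, e.inv ≫ c', isomorphic_distinguished _ hT' _
    (Triangle.isoMk _ _ (Iso.refl _) e.symm e.symm c₁ c₂ c₃)⟩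

end Groth.Agent.DerPush
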