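import Groth.Agent.DerPush.Basic

/-!
`Rf_*` of an exact pushforward is computed termwise.
-/

set_option autoImplicit false
universe u

namespace Groth.Agent.DerPush

open CategoryTheory Limits AlgebraicGeometry

attribute [local instance] HasDerivedCategory.standard

variable {X Y : Scheme.{u}}

lemma isIso_rpushUnit_app_of_exact (f : X ⟶ Y) [DCoh.HasRpush f]
    [(Scheme.Modules.pushforward f).PreservesHomology] (K : CochainComplex X.Modules ℤ) :
    IsIso ((rpushUnit f).app ((HomotopyCategory.quotient _ _).obj K)) := by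
  obtain ⟨I, s, hI, hs⟩ := exists_kInj_sch K
  let q := HomotopyCategory.quotient X.Modules (ComplexShape.up ℤ)
  have h1 := isIso_rpushUnit_app f (I := q.obj I) hI
  have : IsIso (DerivedCategory.Q.map s) := inferInstance
  have h3 : IsIso ((DerivedCategory.Qh ⋙ DCoh.Rpush f).map (q.map s)) := by
    have : IsIso ((DerivedCategory.Qh (C := X.Modules)).map (q.map s)) :=
      (NatIso.isIso_map_iff (DerivedCategory.quotientCompQhIso X.Modules) s).2 this
    exact inferInstanceAs (IsIso ((DCoh.Rpush f).map (DerivedCategory.Qh.map (q.map s))))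
  have h2 : IsIso ((DCoh.pushKh f).map (q.map s)) := by
    have : IsIso (DerivedCategory.Q.map (((Scheme.Modules.pushforward f).mapHomologicalComplex (ComplexShape.up ℤ)).map s)) :=
      inferInstance
    exact (NatIso.isIso_map_iff (Functor.isoWhiskerRight
      ((Scheme.Modules.pushforward f).mapHomotopyCategoryFactors (ComplexShape.up ℤ)) DerivedCategory.Qh ≪≫
        Functor.associator _ _ _ ≪≫ Functor.isoWhiskerLeft _ (DerivedCategory.quotientCompQhIso Y.Modules)) s).2 this
  have h := (rpushUnit f).naturality (q.map s)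
  have h4 : IsIso ((DCoh.pushKh f).map (q.map s) ≫ (rpushUnit f).app (q.obj I)) := IsIso.comp_isIso' h2 h1
  exact @IsIso.of_isIso_fac_right _ _ _ _ _ _ _ _ h3 h4 h.symm

/-- `Rf_* Q(K) ≅ Q(f_* K)` for exact `f_*` -/
noncomputable def rpushIsoOfExact (f : X ⟶ Y) [DCoh.HasRpush f]
    [(Scheme.Modules.pushforward f).PreservesHomology] (K : CochainComplex X.Modules ℤ) :
    (DCoh.Rpush f).obj (DerivedCategory.Q.obj K) ≅
      DerivedCategory.Q.obj (((Scheme.Modules.pushforward f).mapHomologicalComplex (ComplexShape.up ℤ)).obj K) :=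
  (DCoh.Rpush f).mapIso ((DerivedCategory.quotientCompQhIso X.Modules).app K).symm ≪≫
    (@asIso _ _ _ _ ((rpushUnit f).app ((HomotopyCategory.quotient _ _).obj K))
      (isIso_rpushUnit_app_of_exact f K)).symm ≪≫
    DerivedCategory.Qh.mapIso (((Scheme.Modules.pushforward f).mapHomotopyCategoryFactors (ComplexShape.up ℤ)).app K) ≪≫
    (DerivedCategory.quotientCompQhIso Y.Modules).app _

end Groth.Agent.DerPush
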